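import Groth.Agent.GrpdImage.Sub
import Groth.Agent.SchImg.IdealTools
import Groth.Agent.RedSepLib.Basic
import Groth.Agent.DvrDom.ClosedProper
import Groth.Agent.FinHopf.PerfTensor

/-!
# Images of morphisms of groupoid schemes over a field
-/

set_option autoImplicit false
set_option backward.isDefEq.respectTransparency false
set_option backward.isDefEq.respectTransparency.types false
universe u

open CategoryTheory CategoryTheory.Limits AlgebraicGeometry TensorProduct

noncomputable section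

namespace Groth.Agent.GrpdImage

open Grpd

/-- Morphisms whose restriction along a scheme-theoretically dominant morphism factors through a closed subscheme factor. -/
theorem exists_lift {R Z P W : Scheme.{u}} (c : Z ⟶ R) [IsClosedImmersion c] (m : P ⟶ R) (q : W ⟶ P)
    [IsSchemeTheoreticallyDominant q] (l : W ⟶ Z) (h : q ≫ m = l ≫ c) : ∃ m', m' ≫ c = m := by
  refine ⟨IsClosedImmersion.lift c m ?_, IsClosedImmersion.lift_fac _ _ _⟩
  calc c.ker ≤ (l ≫ c).ker := Scheme.Hom.le_ker_comp _ _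
    _ = (q ≫ m).ker := by rw [h]
    _ = m.ker := by rw [Scheme.Hom.ker_comp, q.ker_eq_bot, Scheme.IdealSheafData.map_bot]

/-- Products of quasi-compact scheme-theoretically dominant morphisms over a base to which everything is flat. -/
theorem schDom_map {U X Y X' Y' : Scheme.{u}} (hflat : ∀ {W : Scheme.{u}} (g : W ⟶ U), Flat g)
    (f : X ⟶ X') (g : Y ⟶ Y') (a : X' ⟶ U) (b : Y' ⟶ U) [QuasiCompact f] [IsSchemeTheoreticallyDominant f]
    [QuasiCompact g] [IsSchemeTheoreticallyDominant g] :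
    ∃ q : pullback (f ≫ a) (g ≫ b) ⟶ pullback a b, IsSchemeTheoreticallyDominant q ∧
      q ≫ pullback.fst a b = pullback.fst _ _ ≫ f ∧ q ≫ pullback.snd a b = pullback.snd _ _ ≫ g := by
  let q1 : pullback (f ≫ a) (g ≫ b) ⟶ pullback (f ≫ a) b :=
    pullback.lift (pullback.fst _ _) (pullback.snd _ _ ≫ g) (by simpa using pullback.condition)
  let q2 : pullback (f ≫ a) b ⟶ pullback a b :=
    pullback.lift (pullback.fst _ _ ≫ f) (pullback.snd _ _) (by simpa using pullback.condition)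
  have h1 : IsPullback (pullback.snd (f ≫ a) (g ≫ b)) q1 g (pullback.snd (f ≫ a) b) :=
    IsPullback.of_bot (by rw [pullback.lift_fst]; exact (IsPullback.of_hasPullback _ _).flip)
      (pullback.lift_snd _ _ _).symm (IsPullback.of_hasPullback (f ≫ a) b).flip
  have h2 : IsPullback (pullback.fst (f ≫ a) b) q2 f (pullback.fst a b) :=
    IsPullback.of_bot (by rw [pullback.lift_snd]; exact IsPullback.of_hasPullback _ _)
      (pullback.lift_fst _ _ _).symm (IsPullback.of_hasPullback a b)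
  haveI := hflat (f ≫ a)
  haveI := hflat b
  haveI : IsSchemeTheoreticallyDominant q1 := IsSchemeTheoreticallyDominant.of_isPullback h1
  haveI : IsSchemeTheoreticallyDominant q2 := IsSchemeTheoreticallyDominant.of_isPullback h2
  exact ⟨q1 ≫ q2, inferInstance, by simp [q1, q2], by simp [q1, q2]⟩

variable {S : Scheme.{u}} {G₁ G₂ : GroupoidScheme S} (f : GroupoidScheme.Hom G₁ G₂)

theorem hom_e : G₁.e ≫ f.fR = f.fU ≫ G₂.e := by
  have hs : (G₁.e ≫ f.fR) ≫ G₂.s = f.fU := by rw [Category.assoc, f.comm_s, reassoc_of% G₁.e_s]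
  have ht : (G₁.e ≫ f.fR) ≫ G₂.t = f.fU := by rw [Category.assoc, f.comm_t, reassoc_of% G₁.e_t]
  have h0 : G₁.e ≫ G₁.s = G₁.e ≫ G₁.t := G₁.e_s.trans G₁.e_t.symm
  have hc := f.comm_c G₁.e G₁.e h0
  rw [lift_congr G₁ (β' := G₁.e ≫ G₁.s ≫ G₁.e) h0 (by simp [G₁.e_t]) rfl (by rw [reassoc_of% G₁.e_s]),
    G₁.comp_e] at hc
  rw [eq_e_of_idem G₂ _ (hs.trans ht.symm) hc.symm, ← Category.assoc (G₁.e ≫ f.fR) G₂.s, hs]

theorem hom_i : f.fR ≫ G₂.i = G₁.i ≫ f.fR := by
  have h0 : 𝟙 G₁.R ≫ G₁.s = G₁.i ≫ G₁.t := by rw [Category.id_comp, G₁.i_t]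
  have hc := f.comm_c (𝟙 G₁.R) G₁.i h0
  rw [lift_congr G₁ (β' := 𝟙 _ ≫ G₁.i) h0 (by simp [G₁.i_t]) rfl (Category.id_comp _).symm, G₁.comp_i] at hc
  refine (eq_i_of_comp G₂ f.fR (G₁.i ≫ f.fR) (by rw [Category.assoc, f.comm_t, f.comm_s, reassoc_of% G₁.i_t])
    ?_ (by rw [Category.assoc, f.comm_s, f.comm_t, reassoc_of% G₁.i_s])).symm
  refine (lift_congr G₂ _ _ (Category.id_comp _).symm rfl).trans (hc.symm.trans ?_)
  simp only [Category.id_comp, Category.assoc]
  rw [hom_e, reassoc_of% f.comm_t]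

/-- The scheme-theoretic image of a quasi-compact morphism which is an isomorphism on objects. -/
theorem exists_sub [IsIso f.fU] [QuasiCompact f.fR] (hflat : ∀ {W : Scheme.{u}} (g : W ⟶ G₂.U), Flat g) :
    ∃ D : Sub G₂, IsClosedImmersion D.incl ∧ D.incl.ker = f.fR.ker ∧ ∃ l, l ≫ D.incl = f.fR := by
  let Z := f.fR.image
  let incl : Z ⟶ G₂.R := f.fR.imageι
  let l : G₁.R ⟶ Z := f.fR.toImage
  have hl : l ≫ incl = f.fR := Scheme.Hom.toImage_imageι _
  haveI : IsSchemeTheoreticallyDominant l := SchImg.isSchemeTheoreticallyDominant_toImage _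
  obtain ⟨i₀, hi⟩ := exists_lift incl (incl ≫ G₂.i) l (G₁.i ≫ l)
    (by rw [reassoc_of% hl, Category.assoc, hl, hom_i])
  obtain ⟨q, hq, hq1, hq2⟩ := schDom_map hflat l l (incl ≫ G₂.s) (incl ≫ G₂.t)
  have hcond : pullback.fst (l ≫ incl ≫ G₂.s) (l ≫ incl ≫ G₂.t) ≫ G₁.s = pullback.snd _ _ ≫ G₁.t := by
    rw [← cancel_mono f.fU, Category.assoc, Category.assoc, ← f.comm_s, ← f.comm_t, ← hl]
    simpa using pullback.condition
  obtain ⟨c₀, hc⟩ := exists_lift incl
    (pullback.lift (pullback.fst (incl ≫ G₂.s) (incl ≫ G₂.t) ≫ incl) (pullback.snd _ _ ≫ incl)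
      (by simpa using pullback.condition) ≫ G₂.c) q
    ((pullback.lift _ _ hcond ≫ G₁.c) ≫ l) (by
      refine Eq.trans ?_ ((Category.assoc _ l incl).trans (congrArg (fun z => (pullback.lift _ _ hcond ≫ G₁.c) ≫ z) hl)).symm
      rw [f.comm_c _ _ hcond]
      refine (Category.assoc _ _ _).symm.trans (congrArg (· ≫ G₂.c) ?_)
      apply pullback.hom_ext <;> simp [reassoc_of% hq1, reassoc_of% hq2, hl])
  let D : Sub G₂ :=
    { Z := Z, incl := incl, e₀ := inv f.fU ≫ G₁.e ≫ l,
      he := by rw [Category.assoc, Category.assoc, hl, hom_e, IsIso.inv_hom_id_assoc],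
      i₀ := i₀, hi := hi, c₀ := c₀, hc := hc }
  exact ⟨D, inferInstanceAs (IsClosedImmersion f.fR.imageι), f.fR.ker.ker_subschemeι, l, hl⟩

/-- The fibre product of reduced schemes over a perfect field is reduced. -/
theorem isReduced_pullback_field {k : Type u} [Field k] [PerfectField k] {X Y : Scheme.{u}}
    (f : X ⟶ Spec (CommRingCat.of k)) (g : Y ⟶ Spec (CommRingCat.of k)) [IsReduced X] [IsReduced Y] :
    IsReduced (pullback f g) := by
  apply +allowSynthFailures @IsReduced.of_openCover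
    (𝒰 := Scheme.Pullback.openCoverOfLeftRight X.affineCover Y.affineCover f g)
  rintro ⟨i, j⟩
  haveI : IsReduced (X.affineCover.X i) := isReduced_of_isOpenImmersion (X.affineCover.f i)
  haveI : IsReduced (Y.affineCover.X j) := isReduced_of_isOpenImmersion (Y.affineCover.f j)
  obtain ⟨φ, hφ⟩ := Spec.map_surjective ((X.affineCover.X i).isoSpec.inv ≫ X.affineCover.f i ≫ f)
  obtain ⟨ψ, hψ⟩ := Spec.map_surjective ((Y.affineCover.X j).isoSpec.inv ≫ Y.affineCover.f j ≫ g)
  let : Algebra k Γ(X.affineCover.X i, ⊤) := φ.hom.toAlgebra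
  let : Algebra k Γ(Y.affineCover.X j, ⊤) := ψ.hom.toAlgebra
  haveI := FinHopf.isReduced_tensor_of_perfect k Γ(Y.affineCover.X j, ⊤) Γ(X.affineCover.X i, ⊤)
  haveI : IsReduced (pullback (Spec.map φ) (Spec.map ψ)) :=
    isReduced_of_isOpenImmersion (pullbackSpecIso k Γ(X.affineCover.X i, ⊤) Γ(Y.affineCover.X j, ⊤)).hom
  exact isReduced_of_isOpenImmersion (pullback.map (X.affineCover.f i ≫ f) (Y.affineCover.f j ≫ g)
    (Spec.map φ) (Spec.map ψ) (X.affineCover.X i).isoSpec.hom (Y.affineCover.X j).isoSpec.hom (𝟙 _)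
    (by simp [hφ]) (by simp [hψ]))

theorem isReduced_pullback_perfect {k : Type u} [Field k] [PerfectField k] {U : Scheme.{u}}
    (eU : U ≅ Spec (CommRingCat.of k)) {X Y : Scheme.{u}} (f : X ⟶ U) (g : Y ⟶ U) [IsReduced X] [IsReduced Y] :
    IsReduced (pullback f g) :=
  haveI := isReduced_pullback_field (f ≫ eU.hom) (g ≫ eU.hom)
  isReduced_of_isOpenImmersion (pullback.map f g (f ≫ eU.hom) (g ≫ eU.hom) (𝟙 _) (𝟙 _) eU.hom (by simp) (by simp))

/-- The reduced closed subscheme on the closure of the image of a morphism which is an isomorphism on objects. -/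
theorem exists_sub_reduced [IsIso f.fU] {k : Type u} [Field k] [PerfectField k]
    (eU : G₂.U ≅ Spec (CommRingCat.of k)) :
    ∃ D : Sub G₂, IsClosedImmersion D.incl ∧ IsReduced D.Z ∧
      Set.range D.incl = closure (Set.range f.fR) := by
  have hopen : ∀ {W : Scheme.{u}} (g : W ⟶ G₂.U), UniversallyOpen g := fun g => by
    have : g = (g ≫ eU.hom) ≫ eU.inv := by simp
    rw [this]; infer_instance
  let C : TopologicalSpace.Closeds G₂.R := ⟨closure (Set.range f.fR), isClosed_closure⟩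
  let Z := (Scheme.IdealSheafData.vanishingIdeal C).subscheme
  let incl : Z ⟶ G₂.R := (Scheme.IdealSheafData.vanishingIdeal C).subschemeι
  haveI : IsReduced Z := DvrDom.isReduced_vanishingIdeal_subscheme C
  have hr : Set.range incl = closure (Set.range f.fR) := by
    show Set.range (Scheme.IdealSheafData.vanishingIdeal C).subschemeι = _
    exact DvrDom.range_vanishingIdeal_subschemeι C
  haveI : IsReduced G₂.U := isReduced_of_isOpenImmersion eU.hom
  obtain ⟨e₀, he⟩ := RedSepLib.exists_lift_of_isReduced G₂.e incl (by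
    rintro _ ⟨x, rfl⟩
    rw [hr]
    refine subset_closure ⟨G₁.e (inv f.fU x), ?_⟩
    rw [← Scheme.Hom.comp_apply, ← Scheme.Hom.comp_apply, hom_e, IsIso.inv_hom_id_assoc])
  obtain ⟨i₀, hi⟩ := RedSepLib.exists_lift_of_isReduced (incl ≫ G₂.i) incl (by
    rintro _ ⟨x, rfl⟩
    rw [hr, Scheme.Hom.comp_apply]
    refine map_mem_closure (t := Set.range f.fR) G₂.i.continuous (hr.le ⟨x, rfl⟩) ?_
    rintro _ ⟨y, rfl⟩
    exact ⟨G₁.i y, by rw [← Scheme.Hom.comp_apply, ← Scheme.Hom.comp_apply, hom_i]⟩)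
  haveI : IsReduced (pullback (incl ≫ G₂.s) (incl ≫ G₂.t)) := isReduced_pullback_perfect eU _ _
  let m : pullback (incl ≫ G₂.s) (incl ≫ G₂.t) ⟶ pullback G₂.s G₂.t :=
    pullback.lift (pullback.fst _ _ ≫ incl) (pullback.snd _ _ ≫ incl) (by simpa using pullback.condition)
  obtain ⟨c₀, hc⟩ := RedSepLib.exists_lift_of_isReduced (m ≫ G₂.c) incl (by
    rintro _ ⟨x, rfl⟩
    rw [hr, Scheme.Hom.comp_apply]
    refine map_mem_closure G₂.c.continuous
      (s := {p | (pullback.fst G₂.s G₂.t) p ∈ Set.range f.fR ∧ (pullback.snd G₂.s G₂.t) p ∈ Set.range f.fR}) ?_ ?_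
    · rw [mem_closure_iff]
      intro N hN hxN
      let Y := pullback (incl ≫ G₂.s) G₂.t
      let v : Y ⟶ pullback G₂.s G₂.t :=
        pullback.lift (pullback.fst _ _ ≫ incl) (pullback.snd _ _) (by simpa using pullback.condition)
      let m' : pullback (incl ≫ G₂.s) (incl ≫ G₂.t) ⟶ Y :=
        pullback.lift (pullback.fst _ _) (pullback.snd _ _ ≫ incl) (by simpa using pullback.condition)
      have hm : m' ≫ v = m := by apply pullback.hom_ext <;> simp [m', v, m]
      haveI := hopen (incl ≫ G₂.s)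
      have ho : IsOpen (pullback.snd (incl ≫ G₂.s) G₂.t '' (v ⁻¹' N)) :=
        (pullback.snd (incl ≫ G₂.s) G₂.t).isOpenMap _ (hN.preimage v.continuous)
      obtain ⟨_, ⟨z, hz, rfl⟩, a, ha⟩ := mem_closure_iff.1 (hr.le ⟨pullback.snd (incl ≫ G₂.s) (incl ≫ G₂.t) x, rfl⟩)
        _ ho ⟨m' x, by rw [Set.mem_preimage, ← Scheme.Hom.comp_apply, hm]; exact hxN, by
          rw [← Scheme.Hom.comp_apply, ← Scheme.Hom.comp_apply, pullback.lift_snd]⟩
      obtain ⟨p, hp⟩ : ∃ p, pullback.map G₂.s (f.fR ≫ G₂.t) G₂.s G₂.t (𝟙 _) f.fR (𝟙 _) (by simp) (by simp) p = v z := by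
        rw [← Set.mem_range, Scheme.Pullback.range_map]
        exact ⟨⟨_, rfl⟩, a, by rw [ha, ← Scheme.Hom.comp_apply, pullback.lift_snd]⟩
      haveI := hopen (f.fR ≫ G₂.t)
      let w := pullback.map G₂.s (f.fR ≫ G₂.t) G₂.s G₂.t (𝟙 _) f.fR (𝟙 _) (by simp) (by simp)
      have ho' : IsOpen (pullback.fst G₂.s (f.fR ≫ G₂.t) '' (w ⁻¹' N)) :=
        (pullback.fst G₂.s (f.fR ≫ G₂.t)).isOpenMap _ (hN.preimage w.continuous)
      have hpc : pullback.fst G₂.s (f.fR ≫ G₂.t) p ∈ closure (Set.range f.fR) := by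
        have e : pullback.fst G₂.s (f.fR ≫ G₂.t) p = pullback.fst G₂.s G₂.t (v z) := by
          rw [← hp, ← Scheme.Hom.comp_apply, pullback.lift_fst, Category.comp_id]
        rw [e, ← Scheme.Hom.comp_apply, pullback.lift_fst, Scheme.Hom.comp_apply]
        exact hr.le ⟨_, rfl⟩
      obtain ⟨_, ⟨p', hp', rfl⟩, ha'⟩ := mem_closure_iff.1 hpc _ ho' ⟨p, (by show w p ∈ N; rw [hp]; exact hz), rfl⟩
      refine ⟨w p', hp', ?_, ?_⟩
      · rw [← Scheme.Hom.comp_apply, pullback.lift_fst, Category.comp_id]; exact ha'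
      · rw [← Scheme.Hom.comp_apply, pullback.lift_snd, Scheme.Hom.comp_apply]; exact ⟨_, rfl⟩
    · rintro p ⟨h1, h2⟩
      obtain ⟨q, rfl⟩ : p ∈ Set.range (pullback.map (f.fR ≫ G₂.s) (f.fR ≫ G₂.t) G₂.s G₂.t f.fR f.fR (𝟙 _)
          (by simp) (by simp)) := by rw [Scheme.Pullback.range_map]; exact ⟨h1, h2⟩
      have hcond : pullback.fst (f.fR ≫ G₂.s) (f.fR ≫ G₂.t) ≫ G₁.s = pullback.snd _ _ ≫ G₁.t := by
        rw [← cancel_mono f.fU, Category.assoc, Category.assoc, ← f.comm_s, ← f.comm_t]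
        simpa using pullback.condition
      refine ⟨(pullback.lift _ _ hcond ≫ G₁.c) q, ?_⟩
      rw [← Scheme.Hom.comp_apply, ← Scheme.Hom.comp_apply, f.comm_c _ _ hcond])
  let D : Sub G₂ := { Z := Z, incl := incl, e₀ := e₀, he := he, i₀ := i₀, hi := hi, c₀ := c₀, hc := hc }
  exact ⟨D, inferInstanceAs (IsClosedImmersion (Scheme.IdealSheafData.vanishingIdeal C).subschemeι), ‹IsReduced Z›, hr⟩

end Groth.Agent.GrpdImage

namespace Groth.Agent.GrpdImage

open Grpd

theorem flat_to_field {k : Type u} [Field k] {U : Scheme.{u}} (eU : U ≅ Spec (CommRingCat.of k))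
    {W : Scheme.{u}} (g : W ⟶ U) : Flat g := by
  have : g = (g ≫ eU.hom) ≫ eU.inv := by simp
  rw [this]; infer_instance

theorem quasiCompact_j {S : Scheme.{u}} (G : GroupoidScheme S) {k : Type u} [Field k]
    (eU : G.U ≅ Spec (CommRingCat.of k)) [CompactSpace G.R] : QuasiCompact G.j := by
  haveI : IsAffine G.U := IsAffine.of_isIso eU.hom
  haveI : IsSeparated G.pU := inferInstance
  haveI : IsSeparated (terminal.from (pullback G.pU G.pU)) := by
    have : terminal.from (pullback G.pU G.pU) = pullback.fst G.pU G.pU ≫ terminal.from G.U := Subsingleton.elim _ _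
    rw [this]; infer_instance
  haveI : (pullback G.pU G.pU).IsSeparated := ⟨‹_›⟩
  infer_instance

theorem toGrpd_j {S U : Scheme.{u}} {p : U ⟶ S} (D : Sub (pair p)) : D.toGrpd.j = D.incl := by
  apply pullback.hom_ext
  · exact pullback.lift_fst _ _ _
  · exact pullback.lift_snd _ _ _

end Groth.Agent.GrpdImage
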