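import Groth.Prelude.Def_Grpd

/-!
# Subgroupoids, groupoid algebra and the pair groupoid
-/

set_option autoImplicit false
set_option backward.isDefEq.respectTransparency false
set_option backward.isDefEq.respectTransparency.types false
universe u

open CategoryTheory CategoryTheory.Limits AlgebraicGeometry

noncomputable section

namespace Groth.Agent.GrpdImage

open Grpd

variable {S : Scheme.{u}} (G : GroupoidScheme S)

theorem lift_congr {T : Scheme.{u}} {α α' β β' : T ⟶ G.R} (h : α ≫ G.s = β ≫ G.t) (h' : α' ≫ G.s = β' ≫ G.t)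
    (e₁ : α = α') (e₂ : β = β') : pullback.lift α β h ≫ G.c = pullback.lift α' β' h' ≫ G.c := by
  subst e₁ e₂; rfl

/-- An idempotent loop is the identity. -/
theorem eq_e_of_idem {T : Scheme.{u}} (x : T ⟶ G.R) (h : x ≫ G.s = x ≫ G.t)
    (hx : pullback.lift x x h ≫ G.c = x) : x = x ≫ G.s ≫ G.e := by
  have hi : (x ≫ G.i) ≫ G.s = x ≫ G.t := by rw [Category.assoc, G.i_s]
  have a := G.assoc (x ≫ G.i) x x hi h
  rw [lift_congr G _ (show (x ≫ G.s ≫ G.e) ≫ G.s = x ≫ G.t by simp [G.e_s, h]) (G.i_comp x) rfl,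
    lift_congr G (α := x ≫ G.i) _ hi rfl hx, G.i_comp] at a
  refine Eq.trans ?_ a
  rw [lift_congr G (α' := x ≫ G.t ≫ G.e) _ (by simp [G.e_s]) (by rw [reassoc_of% h]) rfl]
  exact (G.e_comp x).symm

/-- Inverses are unique. -/
theorem eq_i_of_comp {T : Scheme.{u}} (x y : T ⟶ G.R) (h : x ≫ G.s = y ≫ G.t)
    (hy : pullback.lift x y h ≫ G.c = x ≫ G.t ≫ G.e) (hyt : y ≫ G.s = x ≫ G.t) : y = x ≫ G.i := by
  have hi : (x ≫ G.i) ≫ G.s = x ≫ G.t := by rw [Category.assoc, G.i_s]
  have a := G.assoc (x ≫ G.i) x y hi h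
  rw [lift_congr G (α' := x ≫ G.s ≫ G.e) _ (by simp [G.e_s, h]) (G.i_comp x) rfl,
    lift_congr G (α' := y ≫ G.t ≫ G.e) _ (by simp [G.e_s]) (by rw [reassoc_of% h]) rfl, G.e_comp,
    lift_congr G (α := x ≫ G.i) (β' := (x ≫ G.i) ≫ G.s ≫ G.e) _ (by simp [G.i_s, G.e_t]) rfl
      (hy.trans (by rw [Category.assoc, reassoc_of% G.i_s])), G.comp_e] at a
  exact a

variable {G}

/-- Data of a subgroupoid on the same objects. -/
structure Sub (G : GroupoidScheme S) where
  /-- arrows -/
  Z : Scheme.{u}
  /-- inclusion -/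
  incl : Z ⟶ G.R
  [mono : Mono incl]
  /-- identity -/
  e₀ : G.U ⟶ Z
  he : e₀ ≫ incl = G.e
  /-- inverse -/
  i₀ : Z ⟶ Z
  hi : i₀ ≫ incl = incl ≫ G.i
  /-- composition -/
  c₀ : pullback (incl ≫ G.s) (incl ≫ G.t) ⟶ Z
  hc : c₀ ≫ incl = pullback.lift (pullback.fst _ _ ≫ incl) (pullback.snd _ _ ≫ incl)
    (by simpa using pullback.condition) ≫ G.c

attribute [instance] Sub.mono

namespace Sub

variable (D : Sub G)

theorem lift_c₀ {T : Scheme.{u}} (α β : T ⟶ D.Z) (h : α ≫ D.incl ≫ G.s = β ≫ D.incl ≫ G.t) :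
    (pullback.lift α β h ≫ D.c₀) ≫ D.incl =
      pullback.lift (α ≫ D.incl) (β ≫ D.incl) (by simpa using h) ≫ G.c := by
  rw [Category.assoc, D.hc, ← Category.assoc]
  congr 1
  apply pullback.hom_ext <;> simp

/-- The groupoid scheme of a subgroupoid. -/
def toGrpd : GroupoidScheme S where
  U := G.U
  R := D.Z
  pU := G.pU
  pR := D.incl ≫ G.pR
  s := D.incl ≫ G.s
  t := D.incl ≫ G.t
  e := D.e₀
  i := D.i₀
  c := D.c₀
  s_over := by rw [Category.assoc, G.s_over]
  t_over := by rw [Category.assoc, G.t_over]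
  comp_s α β h := by rw [← Category.assoc, D.lift_c₀ α β h, G.comp_s, Category.assoc]
  comp_t α β h := by rw [← Category.assoc, D.lift_c₀ α β h, G.comp_t, Category.assoc]
  assoc α β γ h₁ h₂ := by
    refine (cancel_mono D.incl).1 ((D.lift_c₀ _ _ _).trans (Eq.trans ?_ (D.lift_c₀ _ _ _).symm))
    exact (lift_congr G _ (by rw [G.comp_s]; simpa using h₂) (D.lift_c₀ α β h₁) rfl).trans
      ((G.assoc _ _ _ (by simpa using h₁) (by simpa using h₂)).trans
        (lift_congr G _ _ rfl (D.lift_c₀ β γ h₂).symm))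
  e_s := by rw [reassoc_of% D.he, G.e_s]
  e_t := by rw [reassoc_of% D.he, G.e_t]
  comp_e α := by
    rw [← cancel_mono D.incl, D.lift_c₀]
    exact (lift_congr G _ (by simp [G.e_t]) rfl (by simp [D.he])).trans (G.comp_e _)
  e_comp α := by
    rw [← cancel_mono D.incl, D.lift_c₀]
    exact (lift_congr G _ (by simp [G.e_s]) (by simp [D.he]) rfl).trans (G.e_comp _)
  i_s := by rw [reassoc_of% D.hi, G.i_s]
  i_t := by rw [reassoc_of% D.hi, G.i_t]
  comp_i α := by
    rw [← cancel_mono D.incl, D.lift_c₀]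
    exact (lift_congr G _ (by simp [G.i_t]) rfl (by simp [D.hi])).trans
      ((G.comp_i _).trans (by simp [D.he]))
  i_comp α := by
    rw [← cancel_mono D.incl, D.lift_c₀]
    exact (lift_congr G _ (by simp [G.i_s]) (by simp [D.hi]) rfl).trans
      ((G.i_comp _).trans (by simp [D.he]))

/-- The inclusion. -/
def inclHom : GroupoidScheme.Hom D.toGrpd G where
  fU := 𝟙 _
  fR := D.incl
  fU_over := Category.id_comp _
  comm_s := (Category.comp_id _).symm
  comm_t := (Category.comp_id _).symm
  comm_c α β h := D.lift_c₀ α β h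

end Sub

/-- The pair groupoid. -/
def pair {S : Scheme.{u}} {U : Scheme.{u}} (p : U ⟶ S) : GroupoidScheme S where
  U := U
  R := pullback p p
  pU := p
  pR := pullback.snd p p ≫ p
  s := pullback.snd p p
  t := pullback.fst p p
  e := pullback.lift (𝟙 U) (𝟙 U) rfl
  i := pullback.lift (pullback.snd p p) (pullback.fst p p) pullback.condition.symm
  c := pullback.lift (pullback.fst _ _ ≫ pullback.fst p p) (pullback.snd _ _ ≫ pullback.snd p p) (by
    rw [Category.assoc, Category.assoc, pullback.condition, reassoc_of% (pullback.condition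
      (f := pullback.snd p p) (g := pullback.fst p p)), pullback.condition])
  s_over := rfl
  t_over := pullback.condition
  comp_s := by intros; simp
  comp_t := by intros; simp
  assoc := by intros; apply pullback.hom_ext <;> simp
  e_s := by simp
  e_t := by simp
  comp_e := by intros; apply pullback.hom_ext <;> simp
  e_comp := by intros; apply pullback.hom_ext <;> simp
  i_s := by simp
  i_t := by simp
  comp_i := by intros; apply pullback.hom_ext <;> simp
  i_comp := by intros; apply pullback.hom_ext <;> simp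

/-- The morphism to the pair groupoid of the objects. -/
def toPair (G : GroupoidScheme S) : GroupoidScheme.Hom G (pair G.pU) where
  fU := 𝟙 _
  fR := G.j
  fU_over := Category.id_comp _
  comm_s := by simp [pair, GroupoidScheme.j]
  comm_t := by simp [pair, GroupoidScheme.j]
  comm_c α β h := by
    apply pullback.hom_ext <;> simp only [pair, GroupoidScheme.j, Category.assoc, pullback.lift_fst,
      pullback.lift_snd, pullback.lift_fst_assoc, pullback.lift_snd_assoc]
    · exact (Category.assoc _ _ _).symm.trans (G.comp_t α β h)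
    · exact (Category.assoc _ _ _).symm.trans (G.comp_s α β h)

end Groth.Agent.GrpdImage
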